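import Mathlib
import Cfsg.Agent.Lib.ReeRec.Walter
import Cfsg.Agent.Lib.WCor.In
import Cfsg.Agent.Lib.HallNum.Bwd
import Cfsg.Agent.Lib.Perm.MultiTransDiag
import Cfsg.Agent.Lib.Recog.SpecSplit
import Cfsg.Agent.Lib.J1.Iso
import Cfsg.Agent.Lib.MultC.Pkg
import Cfsg.Agent.Lib.LieModel.TwMap
import Cfsg.Agent.S2602
import Cfsg.Agent.S2127

/-!
# Groups of order not divisible by 16
-/

set_option autoImplicit false

namespace CfsgLib.Syl8

open Cfsg Subgroup
open scoped MatrixGroups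

universe u

variable {G : Type u} [Group G] [Finite G]

theorem four_dvd_of_simple [IsSimpleGroup G] (h : ¬ IsMulCommutative G) : 4 ∣ Nat.card G :=
  by_contra fun e => h ⟨⟨IsSimpleGroup.comm_iff_isSolvable.2 (HallNum.solv_of_not_four e)⟩⟩

omit [Finite G] in
theorem card_mul_dvd {A B : Subgroup G} (h : B ≤ centralizer (A : Set G)) (hd : A ⊓ B = ⊥) :
    Nat.card A * Nat.card B ∣ Nat.card G := by
  let f : A × B →* G := MonoidHom.noncommCoprod A.subtype B.subtype fun a b =>
    mem_centralizer_iff.1 (h b.2) a a.2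
  rw [← Nat.card_prod]
  refine card_dvd_of_injective f ((injective_iff_map_eq_one f).2 fun x hx => ?_)
  have h1 : (x.1 : G) * x.2 = 1 := hx
  have h2 : (x.1 : G) ∈ A ⊓ B := ⟨x.1.2, by rw [eq_inv_of_mul_eq_one_left h1]; exact B.inv_mem x.2.2⟩
  rw [hd, mem_bot] at h2
  rw [h2, one_mul] at h1
  exact Prod.ext (Subtype.ext h2) (Subtype.ext h1)

omit [Finite G] in
theorem inf_eq_bot_of_simple {T B : Subgroup G} [IsSimpleGroup T] (h : ¬ IsMulCommutative T)
    (hB : B ≤ centralizer (T : Set G)) : T ⊓ B = ⊥ := eq_bot_iff.2 fun x hx => by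
  have h1 : (⟨x, hx.1⟩ : T) ∈ center T :=
    mem_center_iff.2 fun y => Subtype.ext (mem_centralizer_iff.1 (hB hx.2) y y.2)
  rcases IsSimpleGroup.eq_bot_or_eq_top_of_normal (center T) inferInstance with e | e
  · rw [e, mem_bot] at h1
    exact congrArg Subtype.val h1
  · exact absurd (center_eq_top_iff.1 e) h

/-- A non-trivial group of order not divisible by 16 without non-trivial solvable normal subgroups
is almost simple. -/
theorem exists_almost_simple [Nontrivial G] (h16 : ¬ 16 ∣ Nat.card G)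
    (hs : ∀ N : Subgroup G, N.Normal → Group.IsSolvable N → N = ⊥) :
    ∃ T : Subgroup G, T.Normal ∧ IsSimpleGroup T ∧ ¬ IsMulCommutative T ∧
      centralizer (T : Set G) = ⊥ := by
  obtain ⟨M, hM, hM0, -, hmin⟩ := Core.exists_minimal_normal_le (K := (⊤ : Subgroup G)) top_ne_bot
  obtain ⟨T, -, -, hTs, hTc, h2, -⟩ := Perm.exists_simple_factor M hM0 hmin
    fun h => hM0 (hs M hM (Group.isSolvable_of_comm fun a b => h.is_comm.comm a b))
  have h4 := four_dvd_of_simple hTc
  have key : ∀ B : Subgroup G, B ≤ centralizer (T : Set G) → ¬ 4 ∣ Nat.card B := fun B hB h =>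
    h16 ((mul_dvd_mul h4 h).trans (card_mul_dvd hB (inf_eq_bot_of_simple hTc hB)))
  have hTn : T.Normal := ⟨fun t ht g => ((h2 g).resolve_right fun h => key _ h (by
    rwa [card_map_of_injective (MulAut.conj g).injective])).le ⟨t, ht, rfl⟩⟩
  exact ⟨T, hTn, hTs, hTc, hs _ inferInstance (HallNum.solv_of_not_four (key _ le_rfl))⟩

omit [Finite G] in
theorem index_dvd_out {T : Subgroup G} [T.Normal] (h : centralizer (T : Set G) = ⊥) :
    T.index ∣ Nat.card (Out T) := by
  let f : G →* Out T := (QuotientGroup.mk' (Inn T)).comp MulAut.conjNormal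
  have hk : f.ker = T := by
    ext g
    rw [MonoidHom.mem_ker]
    change QuotientGroup.mk' (Inn T) (MulAut.conjNormal g) = 1 ↔ _
    rw [QuotientGroup.mk'_apply, QuotientGroup.eq_one_iff]
    constructor
    · rintro ⟨t, ht⟩
      have : (t : G)⁻¹ * g ∈ centralizer (T : Set G) := mem_centralizer_iff.2 fun x hx => by
        have := congrArg Subtype.val (DFunLike.congr_fun ht ⟨x, hx⟩)
        simp only [MulAut.conj_apply, coe_mul, coe_inv, MulAut.conjNormal_apply] at this
        calc x * ((t : G)⁻¹ * g) = (t : G)⁻¹ * (t * x * (t : G)⁻¹) * g := by group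
          _ = _ := by rw [this]; group
      rw [h, mem_bot, inv_mul_eq_one] at this
      exact this ▸ t.2
    · exact fun hg => ⟨⟨g, hg⟩, MulEquiv.ext fun x => Subtype.ext rfl⟩
  have := index_ker f
  rw [hk] at this
  rw [this]
  exact card_subgroup_dvd_card _

theorem classify16 [IsSimpleGroup G] (hG : ¬ IsMulCommutative G) (h16 : ¬ 16 ∣ Nat.card G) :
    (∃ (F : Type) (_ : Field F) (_ : Fintype F), 4 ≤ Fintype.card F ∧ Nonempty (G ≃* PSL(2, F))) ∨
      Lie.IsoRee G ∨ Spor.IsoJ1 G ∨ Nonempty (G ≃* alternatingGroup (Fin 7)) := by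
  have := Fact.mk Nat.prime_two
  obtain ⟨T⟩ : Nonempty (Sylow 2 G) := inferInstance
  by_cases hc : IsMulCommutative (T : Subgroup G)
  · rcases ReeRec.walter hG (Abel2.abelian_sylow_of_one T hc) with
      ⟨a, ha, F, _, _, h1, e⟩ | ⟨F, _, _, h1, -, e⟩ | h | h
    · exact Or.inl ⟨F, _, _, h1 ▸ (Nat.pow_le_pow_right two_pos ha : 2 ^ 2 ≤ 2 ^ a), e⟩
    · exact Or.inl ⟨F, _, _, by omega, e⟩
    · exact Or.inr (Or.inl h)
    · exact Or.inr (Or.inr (Or.inl h))
  obtain ⟨k, hk⟩ := T.isPGroup'.exists_card_eq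
  have h1 : k < 4 := not_le.1 fun e =>
    h16 ((pow_dvd_pow 2 e).trans (hk ▸ card_subgroup_dvd_card _))
  have h2 : k = 3 := by
    by_contra e
    have h3 : k ≤ 2 := by omega
    interval_cases k
    · have := (Nat.card_eq_one_iff_unique.1 hk).1
      exact hc ⟨⟨fun a b => Subsingleton.elim _ _⟩⟩
    · have := isCyclic_of_prime_card hk
      exact hc inferInstance
    · exact hc (IsPGroup.isMulCommutative_of_card_eq_prime_sq hk)
  obtain ⟨r, s, hD⟩ := WCor.dih_of_eight hG T (by rw [hk, h2]; rfl) hc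
  rcases WCor.gws G hG ⟨T, 4, r, s, by norm_num, hD⟩ with ⟨F, _, _, -, h1, e⟩ | h
  · exact Or.inl ⟨F, _, _, h1, e⟩
  · exact Or.inr (Or.inr (Or.inr h))

theorem card_out_psl {F : Type*} [Field F] [Fintype F] {p f : ℕ} (hp : p.Prime)
    (hF : Fintype.card F = p ^ f) (h4 : 4 ≤ p ^ f) :
    Nat.card (Out PSL(2, F)) = Nat.gcd 2 (p ^ f - 1) * f := by
  have := Fact.mk hp
  have hf : 1 ≤ f := Nat.pos_of_ne_zero (by rintro rfl; simp at h4)
  obtain ⟨φ, h1, -, h2⟩ := Cfsg.Agent.S2602.result hf hF h4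
  rw [← φ.ker.card_mul_index, h2, index_ker, MonoidHom.range_eq_top.2 h1, card_top,
    Nat.card_congr Multiplicative.toAdd, Nat.card_zmod]

theorem g2Words_map {F K : Type*} [Field F] [Field K] (e : F ≃+* K) (q : ℕ) :
    ∀ w ∈ Lie.g2Words F q, (w.map fun p => (p.1, e p.2)) ∈ Lie.g2Words K q := by
  rintro _ ⟨t, u, v, rfl | rfl⟩
  · exact ⟨e t, e u, e v, Or.inl (by simp [Lie.reeWordU])⟩
  · exact ⟨e t, e u, e v, Or.inr (by
      simp [Lie.reeWordV, Lie.reeWordU, Lie.ChevalleyDatum.negWord])⟩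

/-- the small Ree groups over isomorphic fields are isomorphic -/
noncomputable def twistedG2Equiv {F K : Type*} [Field F] [Field K] (e : F ≃+* K) (q : ℕ) :
    Lie.twistedG2 F q ≃* Lie.twistedG2 K q :=
  LieModel.genEquiv Lie.chevG2 e (g2Words_map e q) (g2Words_map e.symm q)

end CfsgLib.Syl8
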